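import Cfsg.Agent.H106.RC.Use
import Cfsg.Prelude.Def_Classification2

/-!
# S3509: induction over all simple groups which are not alternating (helper873)

* `NSA S`    : `S` is nonabelian simple and not alternating.
* `IHx m`    : `RC` for all `NSA` groups of order `< m`.
* `RowX P`   : every `NSA` group `S` with `P S` has `RC S`, given `IHx |S|`.
* `rcx_of_rows` : everything from the classification, the classical groups, the exceptional and the sporadic row.
* `IHx.use`, `mrule_IHx` : `RC` for a simple quotient of a proper subgroup, M-rule with `IHx` built in.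
-/

set_option autoImplicit false
open Cfsg

namespace Cfsg.Agent.H873.RG

open MulAction Cfsg.Agent.H106.RC

/-- nonabelian simple, not alternating -/
structure NSA (S : Type*) [Group S] : Prop where
  simple : IsSimpleGroup S
  ncomm : ¬ IsMulCommutative S
  nalt : ¬ IsAlternating S

/-- induction hypothesis -/
def IHx (m : ℕ) : Prop :=
  ∀ (S : Type) [Group S] [Finite S], NSA S → Nat.card S < m → RC S

/-- a row -/
def RowX (P : ∀ (S : Type) [Group S], Prop) : Prop :=
  ∀ (S : Type) [Group S] [Finite S], NSA S → P S → IHx (Nat.card S) → RC S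

theorem exc_alt {S : Type*} [Group S] (h : Exc S) : IsAlternating S := by
  rcases h with h | h | h
  · exact ⟨5, le_refl _, h⟩
  · exact ⟨6, by norm_num, h⟩
  · exact ⟨8, by norm_num, h⟩

/-- assembly of the induction: classification `hK`, classical groups `hC` (output of `rc_of_rows`), exceptional groups
`hE`, sporadic groups `hS` -/
theorem rcx_of_rows
    (hK : ∀ (S : Type) [Group S] [Finite S], IsSimpleGroup S → IsKnownSimple' S)
    (hC : ∀ (S : Type) [Group S] [Finite S], IsSimpleGroup S → ¬ IsMulCommutative S → Cl S → ¬ Exc S → RC S)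
    (hE : RowX (fun S _ => IsExceptionalLieType S)) (hS : RowX (fun S _ => IsSporadicGroup S)) :
    ∀ (S : Type) [Group S] [Finite S], NSA S → RC S := by
  have key : ∀ m : ℕ, IHx m := by
    intro m
    induction m using Nat.strong_induction_on with
    | _ m ih =>
      intro S _ _ h hlt
      have ihS := ih (Nat.card S) hlt
      have hcl : Cl S → RC S := fun h' => hC S h.simple h.ncomm h' (fun he => h.nalt (exc_alt he))
      rcases hK S h.simple with h' | h' | h' | h' | h' | h' | h' | h' | h' | h'
      · refine absurd ?_ h.ncomm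
        have hp : Fact (Nat.card S).Prime := ⟨h'⟩
        have hc : IsCyclic S := isCyclic_of_prime_card (α := S) (p := Nat.card S) rfl
        exact ⟨⟨fun a b => hc.commGroup.mul_comm a b⟩⟩
      · exact absurd h' h.nalt
      · exact hcl (Or.inl h')
      · exact hcl (Or.inr (Or.inl h'))
      · exact hcl (Or.inr (Or.inr (Or.inl h')))
      · exact hcl (Or.inr (Or.inr (Or.inr (Or.inl h'))))
      · exact hcl (Or.inr (Or.inr (Or.inr (Or.inr (Or.inl h')))))
      · exact hcl (Or.inr (Or.inr (Or.inr (Or.inr (Or.inr h')))))
      · exact hE S h h' ihS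
      · exact hS S h h' ihS
  intro S _ _ h
  exact key (Nat.card S + 1) S h (Nat.lt_succ_self _)

/-- `RC` for a simple quotient of a proper subgroup of `N ≅ S` -/
theorem IHx.use {G S S' : Type} [Group G] [Finite G] [Group S] [Finite S] [Group S'] [Finite S']
    (hIH : IHx (Nat.card S)) {N : Subgroup G} (e : N ≃* S) {M : Subgroup G} (hMN : M ≤ N)
    (hne : M ≠ N) (π : M →* S') (hπ : Function.Surjective π) (h : NSA S') : RC S' := by
  apply hIH S' h
  have hc1 : Nat.card S' ≤ Nat.card M := Nat.card_le_card_of_surjective π hπ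
  have hc2 : Nat.card M < Nat.card N := by
    have h5 : Nat.card M ≤ Nat.card N := Subgroup.card_le_of_le hMN
    rcases lt_or_eq_of_le h5 with h | h
    · exact h
    · exact (hne (Subgroup.eq_of_le_of_card_ge hMN h.ge)).elim
  have hc3 : Nat.card N = Nat.card S := Nat.card_congr e.toEquiv
  omega

/-- M-rule with the induction hypothesis built in.  Conclusion for every point. -/
theorem mrule_IHx {G S S' Ω ι : Type} [Group G] [Finite G] [Group S] [Finite S] [Group S']
    [Finite S'] [MulAction G Ω] [Finite ι]
    (hIH : IHx (Nat.card S)) {N : Subgroup G} (e : N ≃* S) {M : Subgroup G} (hMN : M ≤ N)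
    (hne : M ≠ N) (hperf : ⁅M, M⁆ = M) (π : M →* S') (hπ : Function.Surjective π)
    (hker : π.ker ≤ Subgroup.center M) (h : NSA S')
    {x : ι → G} {r : ι → ℕ} (hx : PF x r) (hcov : Cov Ω x)
    (hnorm : ∀ i, x i ∈ Subgroup.normalizer (M : Set G)) (ω : Ω) :
    M ≤ stabilizer G ω ∨ ∃ j, (∀ m ∈ M, x j * m = m * x j) ∧ x j • ω = ω :=
  mrule_RC h.simple h.ncomm x r hx.prime hx.inj hx.pow hx.comm M hperf π hπ hker hnorm
    (hIH.use e hMN hne π hπ h) ω (fun m _ => by
      obtain ⟨i, hi⟩ := hcov (m • ω)
      exact ⟨i, hi⟩)

end Cfsg.Agent.H873.RG
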