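import Cfsg.Agent.H873.RG.Defs
import Cfsg.Agent.H380.RC.Rules

/-!
# S3509: the rule K1 (helper873)

A cover `x` by commuting elements of different prime orders, `M` quasisimple, normalised by all `x j`, `RC (M / Z(M))`.
Then `{M} ∪ {x j centralising M}` is a cover.

* `k1_cov`  : M-rule, `u ∈ M` and the members centralising `M` cover.
* `k1_dead` : K1: `u ∈ M`, `U` nilpotent, commuting with `u`, normalised by the members `x j` centralising `M`, of order
  prime to theirs, `u ∈ [U, x j]` for those `j`: contradiction.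
* `k1_none` : no member centralises `M`: contradiction;  `k1_self` : the only members centralising `M` are in `M`
  and there is at most one of them: contradiction.
-/

set_option autoImplicit false
open Cfsg

namespace Cfsg.Agent.H873.RG

open MulAction Cfsg.Agent.H106.RC Cfsg.Agent.H380.RC

variable {G Ω ι S' : Type*} [Group G] [MulAction G Ω] [Group S'] [Finite ι]

/-- M-rule as a cover by one element of `M` and the members centralising `M` -/
theorem k1_cov {M : Subgroup G} (hs : IsSimpleGroup S') (hnc : ¬ IsMulCommutative S') (hRC : RC S')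
    (hperf : ⁅M, M⁆ = M) (π : M →* S') (hπ : Function.Surjective π) (hker : π.ker ≤ Subgroup.center M)
    {x : ι → G} {r : ι → ℕ} (hx : PF x r) (hcov : Cov Ω x)
    (hnorm : ∀ i, x i ∈ Subgroup.normalizer (M : Set G)) {u : G} (hu : u ∈ M) (ω : Ω) :
    u • ω = ω ∨ ∃ j : {j // ∀ m ∈ M, x j * m = m * x j}, x j.1 • ω = ω := by
  have h := mrule_RC hs hnc x r hx.prime hx.inj hx.pow hx.comm M hperf π hπ hker hnorm hRC ω
    (fun m _ => hcov (m • ω))
  rcases h with h | ⟨j, hj, hjω⟩
  · exact Or.inl (h hu)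
  · exact Or.inr ⟨⟨j, hj⟩, hjω⟩

/-- **K1.** -/
theorem k1_dead {N : Subgroup G} [Nonempty Ω] (hE : Env G Ω N) {M : Subgroup G}
    (hs : IsSimpleGroup S') (hnc : ¬ IsMulCommutative S') (hRC : RC S')
    (hperf : ⁅M, M⁆ = M) (π : M →* S') (hπ : Function.Surjective π) (hker : π.ker ≤ Subgroup.center M)
    {x : ι → G} {r : ι → ℕ} (hx : PF x r) (hcov : Cov Ω x)
    (hnorm : ∀ i, x i ∈ Subgroup.normalizer (M : Set G)) {u : G} (hu : u ∈ M) (hu1 : u ≠ 1)
    (U : Subgroup G) [Finite U] (hUn : Group.IsNilpotent U) (hUu : ∀ v ∈ U, v * u = u * v)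
    (hU : ∀ j, (∀ m ∈ M, x j * m = m * x j) →
      (∀ v ∈ U, x j * v * (x j)⁻¹ ∈ U) ∧ (r j).Coprime (Nat.card U) ∧ u ∈ cmm U (x j)) : False := by
  have hc := k1_cov hs hnc hRC hperf π hπ hker hx hcov hnorm hu
  exact not_cov_lr (x := fun j : {j // ∀ m ∈ M, x j * m = m * x j} => x j.1) (r := fun j => r j.1) hE
    (fun i => hx.prime _) (fun i => hx.pow _) (fun i j => hx.comm _ _) (U := U) (y := u) hc
    (fun i => (hU i.1 i.2).1) hUn (fun i => (hU i.1 i.2).2.1) hUu hu1 (fun i => (hU i.1 i.2).2.2)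

/-- no member centralises `M` -/
theorem k1_none {N : Subgroup G} [Nonempty Ω] (hE : Env G Ω N) {M : Subgroup G}
    (hs : IsSimpleGroup S') (hnc : ¬ IsMulCommutative S') (hRC : RC S')
    (hperf : ⁅M, M⁆ = M) (π : M →* S') (hπ : Function.Surjective π) (hker : π.ker ≤ Subgroup.center M)
    {x : ι → G} {r : ι → ℕ} (hx : PF x r) (hcov : Cov Ω x)
    (hnorm : ∀ i, x i ∈ Subgroup.normalizer (M : Set G))
    (hJ : ∀ j, ¬ ∀ m ∈ M, x j * m = m * x j) : False := by
  have hM : M ≠ ⊥ := by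
    rintro rfl
    have : Subsingleton S' := by
      refine ⟨fun a b => ?_⟩
      obtain ⟨a', rfl⟩ := hπ a
      obtain ⟨b', rfl⟩ := hπ b
      congr 1
      exact Subsingleton.elim _ _
    exact hnc ⟨⟨fun a b => Subsingleton.elim _ _⟩⟩
  obtain ⟨⟨u, hu⟩, hu1'⟩ := Subgroup.ne_bot_iff_exists_ne_one.1 hM
  have hu1 : u ≠ 1 := fun h => hu1' (Subtype.ext h)
  refine hE.not_all hu1 fun ω => ?_
  rcases k1_cov hs hnc hRC hperf π hπ hker hx hcov hnorm hu ω with h | ⟨j, -⟩
  · exact h
  · exact (hJ j.1 j.2).elim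

/-- exactly one member centralises `M` and it lies in `M` (centre) -/
theorem k1_self {N : Subgroup G} [Nonempty Ω] (hE : Env G Ω N) {M : Subgroup G}
    (hs : IsSimpleGroup S') (hnc : ¬ IsMulCommutative S') (hRC : RC S')
    (hperf : ⁅M, M⁆ = M) (π : M →* S') (hπ : Function.Surjective π) (hker : π.ker ≤ Subgroup.center M)
    {x : ι → G} {r : ι → ℕ} (hx : PF x r) (hcov : Cov Ω x)
    (hnorm : ∀ i, x i ∈ Subgroup.normalizer (M : Set G)) (i₀ : ι) (hi₀ : x i₀ ∈ M)
    (hJ : ∀ j, (∀ m ∈ M, x j * m = m * x j) → j = i₀) : False := by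
  refine hE.not_all (hx.ne i₀) fun ω => ?_
  rcases k1_cov hs hnc hRC hperf π hπ hker hx hcov hnorm hi₀ ω with h | ⟨j, hj⟩
  · exact h
  · rw [hJ j.1 j.2] at hj; exact hj

/-- `RC` for the simple quotient of a quasisimple proper subgroup of `N ≅ S` -/
theorem rc_quot {G S S' : Type} [Group G] [Finite G] [Group S] [Finite S] [Group S'] [Finite S']
    (hIH : IHx (Nat.card S)) {N : Subgroup G} (e : N ≃* S) {M : Subgroup G} (hMN : M ≤ N)
    (hne : M ≠ N) (π : M →* S') (hπ : Function.Surjective π) (h : NSA S') : RC S' :=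
  hIH.use e hMN hne π hπ h

end Cfsg.Agent.H873.RG
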